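import Mathlib

/-!
# Avoiding a fibre over a polynomial model of the base
-/

set_option autoImplicit false
set_option backward.isDefEq.respectTransparency false
set_option backward.defeqAttrib.useBackward true
set_option linter.style.haveILetI false

open CategoryTheory CategoryTheory.Limits AlgebraicGeometry TopologicalSpace TensorProduct

universe u

noncomputable section

namespace Groth.Agent.LfpAvoid

variable {R C B : Type u} [CommRing R] [CommRing C] [CommRing B] [Algebra R C] [Algebra R B]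

/-- Algebra: an ideal avoiding the fibre over `p` contains an element which already avoids the fibre
over any model containing finitely many given elements. -/
theorem exists_finset (p : Ideal B) [p.IsPrime] (J : Ideal (C ⊗[R] B))
    (h : ∀ q : Ideal (C ⊗[R] B), q.IsPrime → J ≤ q →
      q.comap (Algebra.TensorProduct.includeRight : B →ₐ[R] C ⊗[R] B).toRingHom ≠ p) :
    ∃ E : Finset B, ∀ (B' : Type u) [CommRing B'] [Algebra R B'] (ψ : B' →ₐ[R] B),
      (↑E ⊆ Set.range ψ) → ∃ j : C ⊗[R] B', Algebra.TensorProduct.map (AlgHom.id R C) ψ j ∈ J ∧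
        ∀ q : Ideal (C ⊗[R] B'), q.IsPrime → j ∈ q →
          q.comap (Algebra.TensorProduct.includeRight : B' →ₐ[R] C ⊗[R] B').toRingHom ≠
            p.comap ψ.toRingHom := by
  classical
  let ι : B →ₐ[R] C ⊗[R] B := Algebra.TensorProduct.includeRight
  let L : Ideal (C ⊗[R] B) := J ⊔ p.map ι.toRingHom
  obtain ⟨s, hsp, hsL⟩ : ∃ s, s ∉ p ∧ ι s ∈ L := by
    by_contra! hne
    let M : Submonoid (C ⊗[R] B) := p.primeCompl.map ι.toRingHom.toMonoidHom
    have hd : Disjoint (L : Set (C ⊗[R] B)) (M : Set (C ⊗[R] B)) := by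
      rw [Set.disjoint_right]
      rintro _ ⟨s, hs, rfl⟩
      exact hne s hs
    obtain ⟨q, hq, hLq, hdq⟩ := Ideal.exists_le_prime_disjoint L M hd
    refine h q hq (le_sup_left.trans hLq) (le_antisymm (fun x hx => ?_) ?_)
    · by_contra hxp
      exact Set.disjoint_left.mp hdq (Ideal.mem_comap.mp hx) ⟨x, hxp, rfl⟩
    · exact Ideal.map_le_iff_le_comap.mp (le_sup_right.trans hLq)
  obtain ⟨j, hj, x, hx, hjx⟩ := Submodule.mem_sup.mp hsL
  suffices hm : ∀ x ∈ p.map ι.toRingHom, ∃ E : Finset B, ∀ (B' : Type u) [CommRing B']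
      [Algebra R B'] (ψ : B' →ₐ[R] B), (↑E ⊆ Set.range ψ) →
        ∃ x' : C ⊗[R] B', x' ∈ (p.comap ψ.toRingHom).map
          (Algebra.TensorProduct.includeRight : B' →ₐ[R] C ⊗[R] B').toRingHom ∧
          Algebra.TensorProduct.map (AlgHom.id R C) ψ x' = x by
    obtain ⟨E, hE⟩ := hm x hx
    refine ⟨insert s E, fun B' _ _ ψ hψ => ?_⟩
    rw [Finset.coe_insert, Set.insert_subset_iff] at hψ
    obtain ⟨⟨s', rfl⟩, hψ⟩ := hψ
    obtain ⟨x', hx', rfl⟩ := hE B' ψ hψ
    refine ⟨Algebra.TensorProduct.includeRight s' - x', ?_, fun q hq hjq hqp => hsp ?_⟩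
    · have : ι (ψ s') - Algebra.TensorProduct.map (AlgHom.id R C) ψ x' = j := by
        rw [← hjx]; ring
      rw [map_sub]
      simpa [ι, ← this] using hj
    · have hx'q : x' ∈ q := (Ideal.map_le_iff_le_comap.mpr hqp.ge) hx'
      have : Algebra.TensorProduct.includeRight s' ∈ q := by
        simpa using q.add_mem hjq hx'q
      exact (hqp.le this : s' ∈ p.comap ψ.toRingHom)
  intro x hx
  induction hx using Submodule.span_induction with
  | mem y hy =>
    obtain ⟨b, hb, rfl⟩ := hy
    refine ⟨{b}, fun B' _ _ ψ hψ => ?_⟩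
    obtain ⟨b', rfl⟩ := hψ (Finset.mem_singleton_self _)
    exact ⟨_, Ideal.mem_map_of_mem _ hb, by simp [ι]⟩
  | zero => exact ⟨∅, fun B' _ _ ψ _ => ⟨0, zero_mem _, map_zero _⟩⟩
  | add y z _ _ hy hz =>
    obtain ⟨E, hE⟩ := hy
    obtain ⟨F, hF⟩ := hz
    refine ⟨E ∪ F, fun B' _ _ ψ hψ => ?_⟩
    rw [Finset.coe_union, Set.union_subset_iff] at hψ
    obtain ⟨y', hy', rfl⟩ := hE B' ψ hψ.1
    obtain ⟨z', hz', rfl⟩ := hF B' ψ hψ.2
    exact ⟨y' + z', add_mem hy' hz', map_add _ _ _⟩
  | smul a y _ hy =>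
    obtain ⟨E, hE⟩ := hy
    suffices ha : ∀ a : C ⊗[R] B, ∃ F : Finset B, ∀ (B' : Type u) [CommRing B'] [Algebra R B']
        (ψ : B' →ₐ[R] B), (↑F ⊆ Set.range ψ) →
          ∃ a' : C ⊗[R] B', Algebra.TensorProduct.map (AlgHom.id R C) ψ a' = a by
      obtain ⟨F, hF⟩ := ha a
      refine ⟨E ∪ F, fun B' _ _ ψ hψ => ?_⟩
      rw [Finset.coe_union, Set.union_subset_iff] at hψ
      obtain ⟨y', hy', rfl⟩ := hE B' ψ hψ.1
      obtain ⟨a', rfl⟩ := hF B' ψ hψ.2
      exact ⟨a' * y', Ideal.mul_mem_left _ a' hy', by rw [map_mul, smul_eq_mul]⟩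
    intro a
    induction a using TensorProduct.induction_on with
    | zero => exact ⟨∅, fun B' _ _ ψ _ => ⟨0, map_zero _⟩⟩
    | tmul c b =>
      refine ⟨{b}, fun B' _ _ ψ hψ => ?_⟩
      obtain ⟨b', rfl⟩ := hψ (Finset.mem_singleton_self _)
      exact ⟨c ⊗ₜ b', rfl⟩
    | add y z hy hz =>
      obtain ⟨E, hE⟩ := hy
      obtain ⟨F, hF⟩ := hz
      refine ⟨E ∪ F, fun B' _ _ ψ hψ => ?_⟩
      rw [Finset.coe_union, Set.union_subset_iff] at hψ
      obtain ⟨y', rfl⟩ := hE B' ψ hψ.1
      obtain ⟨z', rfl⟩ := hF B' ψ hψ.2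
      exact ⟨y' + z', map_add _ _ _⟩

section Chart

variable {X S : Scheme.{u}} (f : X ⟶ S) (u : Spec (.of R) ⟶ S) (o : Spec (.of C) ⟶ X)
  (h : o ≫ f = Spec.map (CommRingCat.ofHom (algebraMap R C)) ≫ u)

/-- The morphism `Spec B ⟶ S` over the chart `u` of the base. -/
abbrev toBase (B : Type u) [CommRing B] [Algebra R B] : Spec (.of B) ⟶ S :=
  Spec.map (CommRingCat.ofHom (algebraMap R B)) ≫ u

/-- The affine chart of the fibre product. -/
def chart (B : Type u) [CommRing B] [Algebra R B] :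
    Spec (.of (C ⊗[R] B)) ⟶ pullback f (toBase u B) :=
  (pullbackSpecIso R C B).inv ≫
    pullback.map _ _ f (toBase u B) o (𝟙 _) u h.symm (Category.id_comp _).symm

@[reassoc]
lemma chart_fst (B : Type u) [CommRing B] [Algebra R B] :
    chart f u o h B ≫ pullback.fst _ _ =
      Spec.map (CommRingCat.ofHom Algebra.TensorProduct.includeLeftRingHom) ≫ o := by
  simp only [chart, pullback.map, Category.assoc, pullback.lift_fst]
  rw [← Category.assoc, pullbackSpecIso_inv_fst]

@[reassoc]
lemma chart_snd (B : Type u) [CommRing B] [Algebra R B] :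
    chart f u o h B ≫ pullback.snd _ _ = Spec.map (CommRingCat.ofHom
      (Algebra.TensorProduct.includeRight : B →ₐ[R] C ⊗[R] B).toRingHom) := by
  simp only [chart, pullback.map, Category.assoc, pullback.lift_snd, Category.comp_id,
    pullbackSpecIso_inv_snd]
  rfl

lemma isOpenImmersion_chart [IsOpenImmersion u] [IsOpenImmersion o] (B : Type u) [CommRing B]
    [Algebra R B] : IsOpenImmersion (chart f u o h B) := by
  unfold chart
  infer_instance

lemma range_chart [IsOpenImmersion u] (B : Type u) [CommRing B] [Algebra R B] :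
    Set.range (chart f u o h B) = pullback.fst f (toBase u B) ⁻¹' Set.range o := by
  unfold chart
  rw [Scheme.Hom.comp_base, TopCat.coe_comp, Set.range_comp,
    Set.range_eq_univ.mpr ((pullbackSpecIso R C B).inv.surjective),
    Set.image_univ, Scheme.Pullback.range_map]
  simp

/-- The morphism of fibre products given by a map of models. -/
def changeMap {B B' : Type u} [CommRing B] [Algebra R B] [CommRing B'] [Algebra R B']
    (ψ : B' →ₐ[R] B) : pullback f (toBase u B) ⟶ pullback f (toBase u B') :=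
  pullback.map _ _ _ _ (𝟙 _) (Spec.map (CommRingCat.ofHom ψ.toRingHom)) (𝟙 _) (by simp)
    (by rw [Category.comp_id, toBase, toBase, ← Spec.map_comp_assoc, ← CommRingCat.ofHom_comp,
      AlgHom.toRingHom_eq_coe, AlgHom.comp_algebraMap])

@[reassoc (attr := simp)]
lemma changeMap_fst {B B' : Type u} [CommRing B] [Algebra R B] [CommRing B'] [Algebra R B']
    (ψ : B' →ₐ[R] B) : changeMap f u ψ ≫ pullback.fst _ _ = pullback.fst _ _ := by
  simp [changeMap]

@[reassoc (attr := simp)]
lemma changeMap_snd {B B' : Type u} [CommRing B] [Algebra R B] [CommRing B'] [Algebra R B']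
    (ψ : B' →ₐ[R] B) : changeMap f u ψ ≫ pullback.snd _ _ =
      pullback.snd _ _ ≫ Spec.map (CommRingCat.ofHom ψ.toRingHom) := by
  simp [changeMap]

lemma chart_changeMap {B B' : Type u} [CommRing B] [Algebra R B] [CommRing B'] [Algebra R B']
    (ψ : B' →ₐ[R] B) :
    chart f u o h B ≫ changeMap f u ψ = Spec.map (CommRingCat.ofHom
      (Algebra.TensorProduct.map (AlgHom.id R C) ψ).toRingHom) ≫ chart f u o h B' := by
  apply pullback.hom_ext
  · rw [Category.assoc, Category.assoc, changeMap_fst, chart_fst, chart_fst, ← Spec.map_comp_assoc,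
      ← CommRingCat.ofHom_comp]
    congr 3
    ext c
    simp
  · rw [Category.assoc, Category.assoc, changeMap_snd, chart_snd_assoc, chart_snd, ← Spec.map_comp,
      ← Spec.map_comp, ← CommRingCat.ofHom_comp, ← CommRingCat.ofHom_comp]
    congr 2

include h in
/-- One chart: finitely many elements of `B` suffice to keep the closure away from the fibre. -/
theorem exists_finset_chart [IsOpenImmersion u] [IsOpenImmersion o] (p : Spec (.of B))
    (W : Set ↥(pullback f (toBase u B))) (hW : IsClosed W)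
    (hp : ∀ w ∈ W, pullback.snd f (toBase u B) w ≠ p) :
    ∃ E : Finset B, ∀ (B' : Type u) [CommRing B'] [Algebra R B'] (ψ : B' →ₐ[R] B),
      (↑E ⊆ Set.range ψ) →
        ∀ z ∈ closure (changeMap f u ψ '' W), pullback.fst f (toBase u B') z ∈ Set.range o →
          pullback.snd f (toBase u B') z ≠ Spec.map (CommRingCat.ofHom ψ.toRingHom) p := by
  obtain ⟨J, hJ⟩ := (PrimeSpectrum.isClosed_iff_zeroLocus_ideal _).mp
    (hW.preimage (chart f u o h B).continuous)
  obtain ⟨E, hE⟩ := exists_finset (C := C) p.asIdeal J (fun q hq hJq hqp => by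
    have hmem : (⟨q, hq⟩ : Spec (.of (C ⊗[R] B))) ∈ chart f u o h B ⁻¹' W := by
      rw [hJ]; exact hJq
    refine hp _ hmem ?_
    rw [← Scheme.Hom.comp_apply, chart_snd]
    exact PrimeSpectrum.ext hqp)
  refine ⟨E, fun B' _ _ ψ hψ z hz hzo hzp => ?_⟩
  haveI := isOpenImmersion_chart f u o h B'
  rw [← Set.mem_preimage, ← range_chart f u o h B'] at hzo
  obtain ⟨q, rfl⟩ := hzo
  obtain ⟨j, hjJ, hj⟩ := hE B' ψ hψ
  have hsub : chart f u o h B' ⁻¹' (changeMap f u ψ '' W) ⊆ PrimeSpectrum.zeroLocus {j} := by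
    rintro q₁ ⟨w, hw, hwq⟩
    have hwr : w ∈ Set.range (chart f u o h B) := by
      rw [range_chart]
      refine Set.mem_preimage.mpr ?_
      rw [← changeMap_fst f u ψ, Scheme.Hom.comp_apply, hwq, ← Scheme.Hom.comp_apply, chart_fst,
        Scheme.Hom.comp_apply]
      exact ⟨_, rfl⟩
    obtain ⟨q₂, rfl⟩ := hwr
    have h2 : Spec.map (CommRingCat.ofHom
        (Algebra.TensorProduct.map (AlgHom.id R C) ψ).toRingHom) q₂ = q₁ := by
      apply (chart f u o h B').isOpenEmbedding.injective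
      rw [← Scheme.Hom.comp_apply, ← chart_changeMap, Scheme.Hom.comp_apply, hwq]
    have hq₂ : (J : Set (C ⊗[R] B)) ⊆ q₂.asIdeal := by
      have : q₂ ∈ chart f u o h B ⁻¹' W := hw
      rwa [hJ] at this
    rw [← h2]
    exact Set.singleton_subset_iff.mpr (hq₂ hjJ)
  have hq : q ∈ PrimeSpectrum.zeroLocus {j} := by
    refine closure_minimal hsub (PrimeSpectrum.isClosed_zeroLocus _) ?_
    rw [← (chart f u o h B').isOpenEmbedding.isOpenMap.preimage_closure_eq_closure_preimage
      (chart f u o h B').continuous]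
    exact hz
  refine hj q.asIdeal q.2 (Set.singleton_subset_iff.mp hq) ?_
  rw [← Scheme.Hom.comp_apply, chart_snd] at hzp
  exact congrArg PrimeSpectrum.asIdeal hzp

end Chart

end Groth.Agent.LfpAvoid

end
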